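import Groth.Agent.Lib.Pushout6.ClosedPair
import Groth.Agent.Lib.Milnor.Finite
import Mathlib.AlgebraicGeometry.Morphisms.Finite
import Mathlib.RingTheory.Finiteness.ModuleFinitePresentation

/-!
# Finite étale morphisms of pushouts along a closed immersion and an affine morphism
-/

set_option autoImplicit false
set_option backward.isDefEq.respectTransparency false

universe u

open CategoryTheory Limits AlgebraicGeometry Opposite TopologicalSpace
open scoped TensorProduct

namespace GrothLib.Pushout6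

theorem SquareMap.finite_etale_φP {P A B C P' A' B' C' : CommRingCat.{u}}
    (M : SquareMap P A B C P' A' B' C') (hA : M.φA.hom.Finite) (hA' : M.φA.hom.Etale)
    (hB : M.φB.hom.Finite) (hB' : M.φB.hom.Etale) : M.φP.hom.Finite ∧ M.φP.hom.Etale := by
  algebraize [M.φP.hom, M.f.hom, M.g.hom, M.p.hom, M.q.hom]
  letI : Algebra P C := (M.q.hom.comp M.f.hom).toAlgebra
  haveI : IsScalarTower P B C := IsScalarTower.of_algebraMap_eq fun _ => rfl
  haveI : IsScalarTower P A C := IsScalarTower.of_algebraMap_eq fun x => congr($(M.sq.w) x)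
  have hsq : EtMil.IsFibreSquare P B A C := ⟨M.sq.surj, fun b a hba => by
    obtain ⟨x, hx₁, hx₂⟩ := M.sq.ex b a hba
    exact ⟨x, ⟨hx₁, hx₂⟩, fun y hy => sub_eq_zero.mp (M.sq.inj (y - x)
      (by rw [map_sub, hx₁]; exact sub_eq_zero.mpr hy.1) (by rw [map_sub, hx₂]; exact sub_eq_zero.mpr hy.2))⟩⟩
  haveI : Module.Finite A (A ⊗[P] P') := RingHom.finite_algebraMap.mp
    (prop_includeLeft RingHom.finite_respectsIso M.isPushout_left rfl rfl hA)
  haveI : Module.Finite B (B ⊗[P] P') := RingHom.finite_algebraMap.mp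
    (prop_includeLeft RingHom.finite_respectsIso M.isPushout_right rfl rfl hB)
  haveI : Algebra.Etale A (A ⊗[P] P') := RingHom.etale_algebraMap.mp
    (prop_includeLeft RingHom.Etale.respectsIso M.isPushout_left rfl rfl hA')
  haveI : Algebra.Etale B (B ⊗[P] P') := RingHom.etale_algebraMap.mp
    (prop_includeLeft RingHom.Etale.respectsIso M.isPushout_right rfl rfl hB')
  haveI : Module.FinitePresentation A (A ⊗[P] P') :=
    Module.FinitePresentation.of_finite_of_finitePresentation _ _
  haveI : Module.FinitePresentation B (B ⊗[P] P') :=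
    Module.FinitePresentation.of_finite_of_finitePresentation _ _
  haveI : Module.Projective A (A ⊗[P] P') := Module.Flat.projective_of_finitePresentation
  haveI : Module.Projective B (B ⊗[P] P') := Module.Flat.projective_of_finitePresentation
  obtain ⟨hfin, hproj⟩ := Groth.Agent.Milnor.projective_of_pair (A := C) hsq P'
  refine ⟨hfin, ?_⟩
  have key : ∀ (D : Type u) [CommRing D] [Algebra P D] [Algebra.FormallyUnramified D (D ⊗[P] P')],
      Subsingleton (D ⊗[P] Ω[P'⁄P]) := fun D _ _ _ => by
    letI : Algebra P' (D ⊗[P] P') := Algebra.TensorProduct.rightAlgebra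
    exact (KaehlerDifferential.tensorKaehlerEquivBase P D P' (D ⊗[P] P')).injective.subsingleton
  haveI := key A
  haveI := key B
  haveI : Algebra.FormallyUnramified P P' := ⟨Groth.Agent.Milnor.subsingleton_of_pair (A := C) hsq⟩
  haveI : Module.FinitePresentation P P' := Module.finitePresentation_of_projective P P'
  haveI : Algebra.FinitePresentation P P' := inferInstance
  exact RingHom.etale_algebraMap.mpr Algebra.Etale.of_formallyUnramified_of_flat

section Global

variable {X Y Z X' Y' Z' : Scheme.{u}} {i : Z ⟶ X} {j : Z ⟶ Y} [IsClosedImmersion i]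
  {i' : Z' ⟶ X'} {j' : Z' ⟶ Y'} [IsClosedImmersion i'] {fX : X' ⟶ X} {gY : Y' ⟶ Y} {hZ : Z' ⟶ Z}
  (hX : IsPullback hZ i' i fX) (hY : IsPullback hZ j' j gY) (hC : Covered i j) (hC' : Covered i' j')

/-- The preimage of a chart under affine morphisms. -/
noncomputable def Chart.preimage [IsAffineHom fX] [IsAffineHom gY]
    (hw : i' ≫ fX = hZ ≫ i) (hw' : j' ≫ gY = hZ ≫ j) (c : Chart i j) : Chart i' j' where
  U := fX ⁻¹ᵁ c.U
  V := gY ⁻¹ᵁ c.V
  hU := c.hU.preimage fX
  hV := c.hV.preimage gY
  trace := by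
    rw [← Scheme.Hom.comp_preimage, ← Scheme.Hom.comp_preimage, hw, hw', Scheme.Hom.comp_preimage,
      Scheme.Hom.comp_preimage, c.trace]

include hX hY in
theorem covered_preimage [IsAffineHom fX] [IsAffineHom gY] (hC : Covered i j) : Covered i' j' :=
  fun y => by
    obtain ⟨c, hc⟩ := hC (gY y)
    exact ⟨Chart.preimage hX.w.symm hY.w.symm c, hc⟩

theorem isPullback_chartι_mapObj [IsAffineHom fX] [IsAffineHom gY] (c : Chart i j) :
    IsPullback (Spec.map (ringMap hX hY (c' := Chart.preimage hX.w.symm hY.w.symm c) (le_refl _) (le_refl _)))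
      (chartι (Chart.preimage hX.w.symm hY.w.symm c)) (chartι c) (mapObj hX hY hC hC') := by
  refine IsOpenImmersion.isPullback _ _ _ _ (chartι_mapObj hX hY hC hC' _ _) (Opens.ext ?_)
  let c' := Chart.preimage (i' := i') (j' := j') hX.w.symm hY.w.symm c
  refine Set.Subset.antisymm (fun x hx => ?_) ?_
  · rcases exists_inl_or_inr hC' x with ⟨u, rfl⟩ | ⟨v, rfl⟩
    · have h1 : u ∈ c'.U := by
        show fX u ∈ c.U
        rw [← preimage_inl hC c]
        obtain ⟨w, hw⟩ := hx
        exact ⟨w, hw.trans congr($(inl_mapObj hX hY hC hC') u)⟩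
      rw [← preimage_inl hC' c'] at h1
      exact h1
    · have h1 : v ∈ c'.V := by
        show gY v ∈ c.V
        rw [← preimage_inr hC c]
        obtain ⟨w, hw⟩ := hx
        exact ⟨w, hw.trans congr($(inr_mapObj hX hY hC hC') v)⟩
      rw [← preimage_inr hC' c'] at h1
      exact h1
  · rintro _ ⟨w, rfl⟩
    exact ⟨_, (congr($(chartι_mapObj hX hY hC hC' (c := c) (c' := c') (le_refl _) (le_refl _)) w)).symm⟩

/-- Finite étale covers glue along pushouts. -/
theorem finite_etale_mapObj [IsFinite fX] [Etale fX] [IsFinite gY] [Etale gY] :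
    IsFinite (mapObj hX hY hC hC') ∧ Etale (mapObj hX hY hC hC') := by
  let 𝒰 : (obj i j).OpenCover := Scheme.Cover.mkOfCovers (P := @IsOpenImmersion) (Chart i j)
    (fun c => c.W) chartι (fun x => by
      obtain ⟨c, w, hw⟩ := exists_eq_chartι x
      exact ⟨c, w, hw⟩) (fun _ => inferInstance)
  have key : ∀ c : Chart i j,
      let hle := ringMap hX hY (c' := Chart.preimage hX.w.symm hY.w.symm c) (c := c) (le_refl _) (le_refl _)
      IsFinite (Spec.map hle) ∧ Etale (Spec.map hle) := fun c => by
    let c' := Chart.preimage (i' := i') (j' := j') hX.w.symm hY.w.symm c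
    obtain ⟨h1, h2⟩ := (squareMap hX hY (c := c) (c' := c') (le_refl _) (le_refl _)).finite_etale_φP
      (by show (fX.appLE c.U (fX ⁻¹ᵁ c.U) le_rfl).hom.Finite
          rw [← Scheme.Hom.app_eq_appLE]; exact fX.finite_app c.U c.hU)
      (HasRingHomProperty.appLE @Etale fX inferInstance ⟨c.U, c.hU⟩ ⟨c'.U, c'.hU⟩ le_rfl)
      (by show (gY.appLE c.V (gY ⁻¹ᵁ c.V) le_rfl).hom.Finite
          rw [← Scheme.Hom.app_eq_appLE]; exact gY.finite_app c.V c.hV)
      (HasRingHomProperty.appLE @Etale gY inferInstance ⟨c.V, c.hV⟩ ⟨c'.V, c'.hV⟩ le_rfl)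
    exact ⟨(IsFinite.SpecMap_iff _).mpr h1, (HasRingHomProperty.Spec_iff (P := @Etale)).mpr h2⟩
  constructor
  · refine (IsZariskiLocalAtTarget.iff_of_openCover (P := @IsFinite) 𝒰).mpr fun c => ?_
    have sq := (isPullback_chartι_mapObj hX hY hC hC' (c : Chart i j)).flip
    exact (MorphismProperty.cancel_left_of_respectsIso @IsFinite sq.isoPullback.hom
      (pullback.snd (mapObj hX hY hC hC') (chartι (c : Chart i j)))).mp
      (by rw [sq.isoPullback_hom_snd]; exact (key c).1)
  · refine (IsZariskiLocalAtTarget.iff_of_openCover (P := @Etale) 𝒰).mpr fun c => ?_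
    have sq := (isPullback_chartι_mapObj hX hY hC hC' (c : Chart i j)).flip
    exact (MorphismProperty.cancel_left_of_respectsIso @Etale sq.isoPullback.hom
      (pullback.snd (mapObj hX hY hC hC') (chartι (c : Chart i j)))).mp
      (by rw [sq.isoPullback_hom_snd]; exact (key c).2)

end Global

end GrothLib.Pushout6
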